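/-
Quotients of polynomial rings by monic polynomials in separate variables.
-/
import Mathlib

set_option autoImplicit false
universe u

namespace Groth.Agent.EGA41Quot

open Polynomial

/-- The universal algebra with one root for each polynomial. -/
theorem exists_root_algebra {A : Type u} [CommRing A] [Nontrivial A] :
    ∀ {r : ℕ} (F : Fin r → Polynomial A), (∀ i, (F i).Monic) →
      ∃ (C : Type u) (_ : CommRing C) (_ : Algebra A C), Module.Free A C ∧ Module.Finite A C ∧
        Module.finrank A C = (Finset.univ.prod fun i => (F i).natDegree) ∧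
        ∃ x : Fin r → C, (∀ i, aeval (x i) (F i) = 0) ∧ Algebra.adjoin A (Set.range x) = ⊤ ∧
          ∀ (B : Type u) [CommRing B] [Algebra A B] (y : Fin r → B), (∀ i, aeval (y i) (F i) = 0) →
            ∃ φ : C →ₐ[A] B, ∀ i, φ (x i) = y i := by
  intro r
  induction r with
  | zero =>
    intro F _
    refine ⟨A, inferInstance, inferInstance, inferInstance, inferInstance, by simp, Fin.elim0, fun i => i.elim0, ?_,
      fun B _ _ y _ => ⟨Algebra.ofId A B, fun i => i.elim0⟩⟩
    exact Subsingleton.elim _ _
  | succ r ih =>
    intro F hF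
    obtain ⟨C0, _, _, hfree, hfin, hrk, x0, hx0, hadj, huniv⟩ := ih (fun i => F i.castSucc) fun i => hF _
    let G : Polynomial C0 := (F (Fin.last r)).map (algebraMap A C0)
    have hG : G.Monic := (hF _).map _
    let C := AdjoinRoot G
    haveI : Module.Free C0 C := hG.free_adjoinRoot
    haveI : Module.Finite C0 C := hG.finite_adjoinRoot
    have hrkC : Module.finrank A C = Finset.univ.prod fun i => (F i).natDegree := by
      rw [Fin.prod_univ_castSucc, ← hrk]
      rcases subsingleton_or_nontrivial C0 with h | h
      · haveI : Subsingleton C := Module.subsingleton C0 C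
        rw [Module.finrank_zero_of_subsingleton, Module.finrank_zero_of_subsingleton (R := A) (M := C0), zero_mul]
      · rw [← Module.finrank_mul_finrank A C0 C, (AdjoinRoot.powerBasis' hG).finrank, AdjoinRoot.powerBasis'_dim,
          (hF (Fin.last r)).natDegree_map]
    haveI : Module.Free A C := Module.Free.trans (R := A) (S := C0) (M := C)
    haveI : Module.Finite A C := Module.Finite.trans C0 C
    let x : Fin (r + 1) → C := Fin.lastCases (AdjoinRoot.root G) fun i => algebraMap C0 C (x0 i)
    refine ⟨C, inferInstance, inferInstance, inferInstance, inferInstance, hrkC, x, fun i => ?_, ?_, ?_⟩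
    · refine Fin.lastCases ?_ (fun i => ?_) i
      · simp only [x, Fin.lastCases_last]
        rw [← aeval_map_algebraMap C0, AdjoinRoot.aeval_eq, AdjoinRoot.mk_self]
      · simp only [x, Fin.lastCases_castSucc]
        rw [aeval_algebraMap_apply, hx0, map_zero]
    · refine Algebra.eq_top_iff.mpr fun z => ?_
      induction z using AdjoinRoot.induction_on with
      | ih g =>
        induction g using Polynomial.induction_on' with
        | add p q hp hq => rw [map_add]; exact add_mem hp hq
        | monomial n c =>
          rw [← C_mul_X_pow_eq_monomial, map_mul, map_pow, AdjoinRoot.mk_X, AdjoinRoot.mk_C]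
          refine mul_mem ?_ (pow_mem (Algebra.subset_adjoin (R := A) (s := Set.range x) ⟨Fin.last r, by simp [x]⟩) n)
          show algebraMap C0 C c ∈ _
          have hc : c ∈ Algebra.adjoin A (Set.range x0) := hadj ▸ Algebra.mem_top
          induction hc using Algebra.adjoin_induction with
          | mem u hu => obtain ⟨i, rfl⟩ := hu; exact Algebra.subset_adjoin ⟨i.castSucc, by simp [x]⟩
          | algebraMap a =>
            rw [← IsScalarTower.algebraMap_apply A C0 C]
            exact Subalgebra.algebraMap_mem _ a
          | add u v _ _ hu hv => rw [map_add]; exact add_mem hu hv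
          | mul u v _ _ hu hv => rw [map_mul]; exact mul_mem hu hv
    · intro B _ _ y hy
      obtain ⟨φ0, hφ0⟩ := huniv B (fun i => y i.castSucc) fun i => hy _
      have hroot : G.eval₂ φ0.toRingHom (y (Fin.last r)) = 0 := by
        rw [Polynomial.eval₂_map, show φ0.toRingHom.comp (algebraMap A C0) = algebraMap A B from φ0.comp_algebraMap]
        exact hy _
      refine ⟨AdjoinRoot.liftAlgHom G φ0 (y (Fin.last r)) hroot, fun i => ?_⟩
      · refine Fin.lastCases ?_ (fun i => ?_) i
        · simp only [x, Fin.lastCases_last]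
          exact AdjoinRoot.liftAlgHom_root ..
        · simp only [x, Fin.lastCases_castSucc]
          rw [← hφ0]
          exact AdjoinRoot.lift_of hroot

/-- Quotients by monic polynomials in separate variables are finite free. -/
theorem free_quotient {A : Type u} [CommRing A] [Nontrivial A] {r : ℕ} (F : Fin r → Polynomial A)
    (hF : ∀ i, (F i).Monic) (Q : Fin r → MvPolynomial (Fin r) A)
    (hQ : ∀ i, Q i = aeval (MvPolynomial.X i : MvPolynomial (Fin r) A) (F i)) :
    Module.Free A (MvPolynomial (Fin r) A ⧸ Ideal.span (Set.range Q)) ∧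
      Module.Finite A (MvPolynomial (Fin r) A ⧸ Ideal.span (Set.range Q)) ∧
      Module.finrank A (MvPolynomial (Fin r) A ⧸ Ideal.span (Set.range Q)) =
        Finset.univ.prod fun i => (F i).natDegree := by
  obtain ⟨C, _, _, hfree, hfin, hrk, x, hx, hadj, huniv⟩ := exists_root_algebra F hF
  let I := Ideal.span (Set.range Q)
  let B := MvPolynomial (Fin r) A ⧸ I
  let y : Fin r → B := fun i => Ideal.Quotient.mkₐ A I (MvPolynomial.X i)
  obtain ⟨φ, hφ⟩ := huniv B y fun i => by
    rw [show y i = Ideal.Quotient.mkₐ A I (MvPolynomial.X i) from rfl, aeval_algHom_apply, ← hQ]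
    exact Ideal.Quotient.eq_zero_iff_mem.mpr (Ideal.subset_span ⟨i, rfl⟩)
  let ψ0 : MvPolynomial (Fin r) A →ₐ[A] C := MvPolynomial.aeval x
  let ψ : B →ₐ[A] C := Ideal.Quotient.liftₐ I ψ0 fun z hz => by
    refine (show I ≤ RingHom.ker ψ0 from Ideal.span_le.mpr ?_) hz
    rintro _ ⟨i, rfl⟩
    show ψ0 (Q i) = 0
    rw [hQ, ← aeval_algHom_apply, MvPolynomial.aeval_X, hx]
  have h1 : ψ.comp φ = AlgHom.id A C := by
    refine AlgHom.ext_of_adjoin_eq_top hadj ?_
    rintro _ ⟨i, rfl⟩
    show ψ (φ (x i)) = x i
    rw [hφ]
    exact MvPolynomial.aeval_X x i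
  have h2 : φ.comp ψ = AlgHom.id A B := by
    refine Ideal.Quotient.algHom_ext _ (MvPolynomial.algHom_ext fun i => ?_)
    show φ (ψ0 (MvPolynomial.X i)) = _
    rw [MvPolynomial.aeval_X]
    exact hφ i
  let e : B ≃ₐ[A] C := AlgEquiv.ofAlgHom ψ φ h1 h2
  exact ⟨Module.Free.of_equiv e.symm.toLinearEquiv, Module.Finite.equiv e.symm.toLinearEquiv,
    e.toLinearEquiv.finrank_eq.trans hrk⟩

end Groth.Agent.EGA41Quot
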