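/-
Regularity of quotients of regular local rings and of polynomial rings over them.
-/
import Mathlib
import Groth.Agent.EGA41Quot.SepVar
import Groth.Agent.CotT.RegQuot
import Groth.Agent.GLinFree.Dim
import Groth.Agent.SegreDim.Noether

set_option autoImplicit false
universe u

namespace Groth.Agent.EGA41Quot

open IsLocalRing

/-- Independence in the cotangent space, in elementary terms. -/
theorem linearIndependent_toCotangent_iff {R : Type u} [CommRing R] [IsLocalRing R] {r : ℕ} (x : Fin r → R)
    (hx : ∀ i, x i ∈ maximalIdeal R) :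
    LinearIndependent (ResidueField R) (fun i => (maximalIdeal R).toCotangent ⟨x i, hx i⟩) ↔
      ∀ a : Fin r → R, ∑ i, a i * x i ∈ maximalIdeal R ^ 2 → ∀ i, a i ∈ maximalIdeal R := by
  classical
  have key : ∀ a : Fin r → R, ∑ i, residue R (a i) • (maximalIdeal R).toCotangent ⟨x i, hx i⟩ = 0 ↔
      ∑ i, a i * x i ∈ maximalIdeal R ^ 2 := fun a => by
    have h : ∑ i, residue R (a i) • (maximalIdeal R).toCotangent ⟨x i, hx i⟩ =
        (maximalIdeal R).toCotangent ⟨∑ i, a i * x i, sum_mem fun i _ => Ideal.mul_mem_left _ _ (hx i)⟩ := by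
      rw [show (⟨∑ i, a i * x i, sum_mem fun i _ => Ideal.mul_mem_left _ _ (hx i)⟩ : maximalIdeal R) =
        ∑ i, a i • (⟨x i, hx i⟩ : maximalIdeal R) from Subtype.ext (by simp [Submodule.coe_sum]), map_sum]
      refine Finset.sum_congr rfl fun i _ => ?_
      rw [map_smul]
      rfl
    rw [h, Ideal.toCotangent_eq_zero]
  rw [Fintype.linearIndependent_iff]
  constructor
  · intro h a ha i
    exact (residue_eq_zero_iff _).mp (h (fun i => residue R (a i)) ((key a).mpr ha) i)
  · intro h g hg i
    choose a ha using fun i => residue_surjective (g i)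
    simp only [← ha] at hg ⊢
    exact (residue_eq_zero_iff _).mpr (h a ((key a).mp hg) i)

/-- Independent equations cut the number of generators of the maximal ideal. -/
theorem spanFinrank_quotient_le {R : Type u} [CommRing R] [IsRegularLocalRing R] {r d : ℕ} (x : Fin r → R)
    (hx : ∀ i, x i ∈ maximalIdeal R) [IsLocalRing (R ⧸ Ideal.span (Set.range x))]
    (hrk : Module.finrank (ResidueField R) (CotangentSpace R) = d + r)
    (hli : LinearIndependent (ResidueField R) (fun i => (maximalIdeal R).toCotangent ⟨x i, hx i⟩)) :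
    (maximalIdeal (R ⧸ Ideal.span (Set.range x))).spanFinrank ≤ d := by
  classical
  let I := Ideal.span (Set.range x)
  let π := Ideal.Quotient.mk I
  haveI : IsLocalHom π := IsLocalHom.of_surjective π Ideal.Quotient.mk_surjective
  let v : Fin r → CotangentSpace R := fun i => (maximalIdeal R).toCotangent ⟨x i, hx i⟩
  have hmap : (maximalIdeal R).map π = maximalIdeal (R ⧸ I) := by
    refine le_antisymm (Ideal.map_le_iff_le_comap.mpr fun a ha => map_nonunit π a ha) fun b hb => ?_
    obtain ⟨a, rfl⟩ := Ideal.Quotient.mk_surjective b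
    exact Ideal.mem_map_of_mem _ fun hu => hb (hu.map π)
  let W := Submodule.span (ResidueField R) (Set.range v)
  have hq : Module.finrank (ResidueField R) (CotangentSpace R ⧸ W) = d := by
    have h := W.finrank_quotient_add_finrank
    rw [finrank_span_eq_card hli, Fintype.card_fin, hrk] at h
    omega
  let b := Module.finBasisOfFinrankEq (ResidueField R) (CotangentSpace R ⧸ W) hq
  have hlift : ∀ j, ∃ z : maximalIdeal R, W.mkQ ((maximalIdeal R).toCotangent z) = b j := fun j => by
    obtain ⟨c, hc⟩ := W.mkQ_surjective (b j)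
    obtain ⟨z, rfl⟩ := (maximalIdeal R).toCotangent_surjective c
    exact ⟨z, hc⟩
  choose z hz using hlift
  let w : Fin r ⊕ Fin d → maximalIdeal R := Sum.elim (fun i => ⟨x i, hx i⟩) z
  have htop' : Submodule.span (ResidueField R) ((maximalIdeal R).toCotangent '' Set.range w) = ⊤ := by
    refine eq_top_iff.mpr fun c _ => ?_
    set S := Submodule.span (ResidueField R) ((maximalIdeal R).toCotangent '' Set.range w)
    have hW : W ≤ S := Submodule.span_le.mpr (by
      rintro _ ⟨i, rfl⟩; exact Submodule.subset_span ⟨w (Sum.inl i), ⟨_, rfl⟩, rfl⟩)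
    have h1 : W.mkQ c ∈ S.map W.mkQ := by
      have hc : W.mkQ c ∈ Submodule.span (ResidueField R) (Set.range b) := b.span_eq.symm ▸ Submodule.mem_top
      refine (Submodule.span_le.mpr ?_) hc
      rintro _ ⟨j, rfl⟩
      exact ⟨_, Submodule.subset_span ⟨w (Sum.inr j), ⟨_, rfl⟩, rfl⟩, hz j⟩
    obtain ⟨c', hc', he⟩ := h1
    rw [Submodule.mkQ_apply, Submodule.mkQ_apply, Submodule.Quotient.eq] at he
    have := S.sub_mem hc' (hW he)
    rwa [sub_sub_cancel] at this
  have htop := (CotangentSpace.span_image_eq_top_iff (R := R)).mp htop'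
  have hle : maximalIdeal (R ⧸ I) ≤ Ideal.span (Set.range fun j => π (z j)) := by
    intro b hb
    rw [← hmap] at hb
    obtain ⟨a, ha, rfl⟩ := (Ideal.mem_map_iff_of_surjective π Ideal.Quotient.mk_surjective).mp hb
    have h : (⟨a, ha⟩ : maximalIdeal R) ∈ Submodule.span R (Set.range w) := htop ▸ Submodule.mem_top
    obtain ⟨c, hc⟩ := (Submodule.mem_span_range_iff_exists_fun R).mp h
    have h2 := congrArg (fun y : maximalIdeal R => π (y : R)) hc
    rw [Fintype.sum_sum_type] at h2
    simp only [AddSubmonoidClass.coe_finsetSum, Submodule.coe_add, Submodule.coe_smul, smul_eq_mul, map_add, map_sum,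
      map_mul] at h2
    rw [← h2]
    refine add_mem (sum_mem fun i _ => ?_) (sum_mem fun j _ => Ideal.mul_mem_left _ _ (Ideal.subset_span (Set.mem_range_self j)))
    show π (c (Sum.inl i)) * π (x i) ∈ _
    rw [show π (x i) = 0 from Ideal.Quotient.eq_zero_iff_mem.mpr (Ideal.subset_span ⟨i, rfl⟩), mul_zero]
    exact zero_mem _
  have heq : maximalIdeal (R ⧸ I) = Ideal.span (Set.range fun j => π (z j)) := le_antisymm hle
    (Ideal.span_le.mpr (by
      rintro _ ⟨j, rfl⟩; exact hmap ▸ Ideal.mem_map_of_mem π (z j).2))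
  rw [heq]
  refine (Submodule.spanFinrank_span_le_ncard_of_finite (Set.finite_range _)).trans ?_
  rw [← Nat.card_coe_set_eq]
  exact (Finite.card_range_le _).trans (by simp)

/-- A quotient of the expected dimension of a regular local ring is regular iff the equations are independent. -/
theorem isRegularLocalRing_quotient_iff {R : Type u} [CommRing R] [IsRegularLocalRing R] {r d : ℕ} (x : Fin r → R)
    (hx : ∀ i, x i ∈ maximalIdeal R) [IsLocalRing (R ⧸ Ideal.span (Set.range x))]
    (hdQ : ringKrullDim (R ⧸ Ideal.span (Set.range x)) = d) (hdR : ringKrullDim R = (d + r : ℕ)) :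
    IsRegularLocalRing (R ⧸ Ideal.span (Set.range x)) ↔
      LinearIndependent (ResidueField R) (fun i => (maximalIdeal R).toCotangent ⟨x i, hx i⟩) := by
  classical
  let I := Ideal.span (Set.range x)
  let π := Ideal.Quotient.mk I
  haveI : IsLocalHom π := IsLocalHom.of_surjective π Ideal.Quotient.mk_surjective
  have hrk : Module.finrank (ResidueField R) (CotangentSpace R) = d + r := by
    have h := (IsRegularLocalRing.iff_finrank_cotangentSpace R).mp inferInstance
    rw [hdR] at h
    exact_mod_cast h
  have hmap : (maximalIdeal R).map π = maximalIdeal (R ⧸ I) := by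
    refine le_antisymm (Ideal.map_le_iff_le_comap.mpr fun a ha => map_nonunit π a ha) fun b hb => ?_
    obtain ⟨a, rfl⟩ := Ideal.Quotient.mk_surjective b
    exact Ideal.mem_map_of_mem _ fun hu => hb (hu.map π)
  let v : Fin r → CotangentSpace R := fun i => (maximalIdeal R).toCotangent ⟨x i, hx i⟩
  show _ ↔ LinearIndependent (ResidueField R) v
  constructor
  · intro hreg
    obtain ⟨s, hs, hsp⟩ := Submodule.FG.exists_span_set_encard_eq_spanFinrank
      ((isNoetherianRing_iff_ideal_fg (R ⧸ I)).mp inferInstance (maximalIdeal (R ⧸ I)))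
    have hfin : s.Finite := Set.finite_of_encard_eq_coe hs
    have hcard : hfin.toFinset.card = d := by
      have h1 := IsRegularLocalRing.spanFinrank_maximalIdeal (R := R ⧸ I)
      rw [hdQ, Nat.cast_inj] at h1
      rw [hfin.encard_eq_coe_toFinset_card] at hs
      exact (ENat.coe_inj.mp hs).trans h1
    have hlift : ∀ b : hfin.toFinset, ∃ z ∈ maximalIdeal R, π z = b := fun b => by
      have hb : (b : R ⧸ I) ∈ maximalIdeal (R ⧸ I) := hsp ▸ Submodule.subset_span (hfin.mem_toFinset.mp b.2)
      rw [← hmap] at hb
      exact (Ideal.mem_map_iff_of_surjective π Ideal.Quotient.mk_surjective).mp hb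
    choose z hz hzb using hlift
    let w : Fin r ⊕ hfin.toFinset → maximalIdeal R := Sum.elim (fun i => ⟨x i, hx i⟩) fun b => ⟨z b, hz b⟩
    have htop : Submodule.span R (Set.range w) = ⊤ := by
      refine eq_top_iff.mpr fun a _ => ?_
      have hmem : (a : R) ∈ (Submodule.span R (Set.range w)).map (maximalIdeal R).subtype := by
        have hb : π a ∈ (Ideal.span (Set.range z)).map π := by
          have h : π a ∈ maximalIdeal (R ⧸ I) := hmap ▸ Ideal.mem_map_of_mem π a.2
          rw [← hsp] at h
          refine (Submodule.span_le.mpr fun b hb => ?_) h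
          have := Ideal.mem_map_of_mem π (Ideal.subset_span ⟨⟨b, hfin.mem_toFinset.mpr hb⟩, rfl⟩ :
            z ⟨b, hfin.mem_toFinset.mpr hb⟩ ∈ Ideal.span (Set.range z))
          rwa [hzb] at this
        obtain ⟨c, hc, hca⟩ := (Ideal.mem_map_iff_of_surjective π Ideal.Quotient.mk_surjective).mp hb
        rw [← sub_add_cancel (a : R) c]
        refine add_mem ?_ ?_
        · have h : (a : R) - c ∈ I := Ideal.Quotient.eq.mp hca.symm
          refine (Ideal.span_le.mpr ?_) h
          rintro _ ⟨i, rfl⟩
          exact ⟨w (Sum.inl i), Submodule.subset_span ⟨_, rfl⟩, rfl⟩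
        · refine (Ideal.span_le.mpr ?_) hc
          rintro _ ⟨b, rfl⟩
          exact ⟨w (Sum.inr b), Submodule.subset_span ⟨_, rfl⟩, rfl⟩
      obtain ⟨a', ha', he⟩ := hmem
      rwa [← Subtype.ext he]
    have htop' := (CotangentSpace.span_image_eq_top_iff (R := R)).mpr htop
    rw [← Set.range_comp] at htop'
    have hli := linearIndependent_of_top_le_span_of_card_eq_finrank htop'.ge
      (by rw [hrk, Fintype.card_sum, Fintype.card_fin, Fintype.card_coe, hcard, add_comm])
    exact hli.comp Sum.inl Sum.inl_injective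
  · intro hli
    refine IsRegularLocalRing.of_spanFinrank_maximalIdeal_le _ ?_
    rw [hdQ, Nat.cast_le]
    exact spanFinrank_quotient_le x hx hrk hli

/-- The polynomial ring localised at a prime over the maximal ideal has the expected dimension. -/
theorem ringKrullDim_localization {A : Type u} [CommRing A] [IsLocalRing A] [IsNoetherianRing A] {r : ℕ}
    (n : Ideal (MvPolynomial (Fin r) A)) [n.IsMaximal] (hn : n.comap MvPolynomial.C = maximalIdeal A) :
    ringKrullDim (Localization.AtPrime n) = ringKrullDim A + r := by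
  haveI : n.LiesOver (maximalIdeal A) := ⟨hn.symm⟩
  have h := Ideal.height_eq_height_add_of_liesOver_of_hasGoingDown (maximalIdeal A) n
  let K := A ⧸ maximalIdeal A
  letI : Field K := Ideal.Quotient.field _
  let e := (MvPolynomial.quotientEquivQuotientMvPolynomial (σ := Fin r) (maximalIdeal A)).toRingEquiv
  let Im : Ideal (MvPolynomial (Fin r) A) := (maximalIdeal A).map (algebraMap A (MvPolynomial (Fin r) A))
  have hle : Im ≤ n := Ideal.map_le_iff_le_comap.mpr hn.ge
  have hmax : (n.map (Ideal.Quotient.mk Im)).IsMaximal :=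
    (Ideal.map_eq_top_or_isMaximal_of_surjective _ Ideal.Quotient.mk_surjective ‹n.IsMaximal›).resolve_left
      fun htop => Ideal.IsPrime.ne_top (I := n) inferInstance ((Ideal.eq_top_iff_one n).mpr
        ((Ideal.mem_quotient_iff_mem hle).mp ((Ideal.eq_top_iff_one _).mp htop)))
  have h2 : (n.map (Ideal.Quotient.mk Im)).height = r := by
    let M : Ideal (MvPolynomial (Fin r) K) := (n.map (Ideal.Quotient.mk Im)).comap e.toRingHom
    haveI : M.IsMaximal := @Ideal.comap_isMaximal_of_surjective _ _ _ _ _ _ _ e.toRingHom e.surjective _ hmax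
    rw [← GLinFree.height_eq_of_isMaximal r M]
    exact (RingEquiv.height_comap e _).symm
  rw [IsLocalization.AtPrime.ringKrullDim_eq_height n, h, h2, WithBot.coe_add, maximalIdeal_height_eq_ringKrullDim]
  rfl

/-- Regularity of a finite local quotient of a polynomial ring by as many equations as variables. -/
theorem isRegularRing_iff {A : Type u} [CommRing A] [IsRegularLocalRing A] {r : ℕ}
    (F : Fin r → MvPolynomial (Fin r) A) [IsLocalRing (MvPolynomial (Fin r) A ⧸ Ideal.span (Set.range F))]
    [Module.Finite A (MvPolynomial (Fin r) A ⧸ Ideal.span (Set.range F))]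
    (hinj : Function.Injective (algebraMap A (MvPolynomial (Fin r) A ⧸ Ideal.span (Set.range F))))
    (n : Ideal (MvPolynomial (Fin r) A)) [n.IsMaximal]
    (hn : n = (maximalIdeal (MvPolynomial (Fin r) A ⧸ Ideal.span (Set.range F))).comap (Ideal.Quotient.mk _)) :
    IsRegularRing (MvPolynomial (Fin r) A ⧸ Ideal.span (Set.range F)) ↔
      ∀ a : Fin r → Localization.AtPrime n,
        ∑ i, a i * algebraMap _ (Localization.AtPrime n) (F i) ∈ maximalIdeal (Localization.AtPrime n) ^ 2 →
          ∀ i, a i ∈ maximalIdeal (Localization.AtPrime n) := by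
  classical
  let P := MvPolynomial (Fin r) A
  let I := Ideal.span (Set.range F)
  let B := P ⧸ I
  let R := Localization.AtPrime n
  haveI : IsRegularRing A := CotT.isRegularRing_of_local A
  haveI : IsRegularLocalRing R := IsRegularRing.isRegularLocalRing_localization n
  haveI : Algebra.IsIntegral A B := Algebra.IsIntegral.of_finite A B
  haveI : IsNoetherianRing B := IsNoetherianRing.of_finite A B
  have hFn : ∀ i, F i ∈ n := fun i => by
    rw [hn]
    show Ideal.Quotient.mk I (F i) ∈ maximalIdeal B
    rw [show Ideal.Quotient.mk I (F i) = 0 from Ideal.Quotient.eq_zero_iff_mem.mpr (Ideal.subset_span (Set.mem_range_self i))]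
    exact zero_mem (maximalIdeal B)
  have hnA : n.comap MvPolynomial.C = maximalIdeal A := by
    rw [hn, Ideal.comap_comap]
    exact IsLocalRing.eq_maximalIdeal (Ideal.isMaximal_comap_of_isIntegral_of_isMaximal (R := A) (maximalIdeal B))
  obtain ⟨d, hd⟩ := SerreReg.exists_dim_nat A
  let x : Fin r → R := fun i => algebraMap P R (F i)
  have hxm : ∀ i, x i ∈ maximalIdeal R := fun i => (IsLocalization.AtPrime.to_map_mem_maximal_iff R n (F i)).mpr (hFn i)
  let J := Ideal.span (Set.range x)
  let g : R →+* B := IsLocalization.lift (M := n.primeCompl) (g := Ideal.Quotient.mk I) fun s => by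
    by_contra h
    exact s.2 (hn ▸ h : (s : P) ∈ n)
  let f : B →+* R ⧸ J := Ideal.Quotient.lift I ((Ideal.Quotient.mk J).comp (algebraMap P R)) fun z hz => by
    refine (show I ≤ RingHom.ker ((Ideal.Quotient.mk J).comp (algebraMap P R)) from Ideal.span_le.mpr ?_) hz
    rintro _ ⟨i, rfl⟩
    exact Ideal.Quotient.eq_zero_iff_mem.mpr (Ideal.subset_span ⟨i, rfl⟩)
  let g' : R ⧸ J →+* B := Ideal.Quotient.lift J g fun z hz => by
    refine (show J ≤ RingHom.ker g from Ideal.span_le.mpr ?_) hz
    rintro _ ⟨i, rfl⟩
    show g (algebraMap P R (F i)) = 0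
    rw [IsLocalization.lift_eq]
    exact Ideal.Quotient.eq_zero_iff_mem.mpr (Ideal.subset_span ⟨i, rfl⟩)
  have h1 : g'.comp f = RingHom.id B := Ideal.Quotient.ringHom_ext (RingHom.ext fun z => by
    show g (algebraMap P R z) = Ideal.Quotient.mk I z
    exact IsLocalization.lift_eq _ z)
  have h2 : f.comp g' = RingHom.id (R ⧸ J) := Ideal.Quotient.ringHom_ext (IsLocalization.ringHom_ext n.primeCompl
    (RingHom.ext fun z => by
      show f (g (algebraMap P R z)) = _
      rw [IsLocalization.lift_eq]
      rfl))
  let e : B ≃+* R ⧸ J := RingEquiv.ofRingHom f g' h2 h1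
  haveI : IsLocalRing (R ⧸ J) := e.isLocalRing
  have hdQ : ringKrullDim (R ⧸ J) = d := by
    rw [← ringKrullDim_eq_of_ringEquiv e, ← SegreDim.ringKrullDim_eq_of_injective_integral hinj, hd]
  have hdR : ringKrullDim R = (d + r : ℕ) := by
    rw [ringKrullDim_localization n hnA, hd]
    rfl
  rw [← linearIndependent_toCotangent_iff x hxm, ← isRegularLocalRing_quotient_iff x hxm hdQ hdR]
  constructor
  · intro h
    haveI : IsRegularRing (R ⧸ J) := IsRegularRing.of_ringEquiv e
    exact IsRegularLocalRing.of_isRegularRing_of_isLocalRing _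
  · intro h
    haveI : IsRegularRing (R ⧸ J) := CotT.isRegularRing_of_local _
    exact IsRegularRing.of_ringEquiv (R := R ⧸ J) e.symm

end Groth.Agent.EGA41Quot
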