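/-
Eisenstein equations in separate variables.
-/
import Mathlib
import Groth.Agent.EGA41Quot.SepVar

set_option autoImplicit false
universe u

namespace Groth.Agent.EGA41Quot

open IsLocalRing

/-- An Eisenstein equation in the variable of the given index. -/
noncomputable abbrev eis {A : Type u} [CommRing A] {r : ℕ} (d : Fin r → ℕ) (c : Fin r → ℕ → A) (i : Fin r) :
    MvPolynomial (Fin r) A :=
  MvPolynomial.X i ^ d i + (Finset.range (d i)).sum fun k => MvPolynomial.C (c i k) * MvPolynomial.X i ^ k

/-- The prime of the origin in the closed fibre. -/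
noncomputable abbrev originIdeal (A : Type u) [CommRing A] [IsLocalRing A] (r : ℕ) : Ideal (MvPolynomial (Fin r) A) :=
  (maximalIdeal A).comap MvPolynomial.constantCoeff

instance isMaximal_originIdeal (A : Type u) [CommRing A] [IsLocalRing A] (r : ℕ) :
    (originIdeal A r).IsMaximal :=
  Ideal.comap_isMaximal_of_surjective _ fun a => ⟨MvPolynomial.C a, MvPolynomial.constantCoeff_C _ a⟩

variable {A : Type u} [CommRing A] [IsLocalRing A] {r : ℕ} (d : Fin r → ℕ) (hd : ∀ i, 2 ≤ d i) (c : Fin r → ℕ → A)
  (hc : ∀ i k, c i k ∈ maximalIdeal A)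

theorem free_eis :
    Module.Free A (MvPolynomial (Fin r) A ⧸ Ideal.span (Set.range (eis d c))) ∧
      Module.Finite A (MvPolynomial (Fin r) A ⧸ Ideal.span (Set.range (eis d c))) ∧
      Module.finrank A (MvPolynomial (Fin r) A ⧸ Ideal.span (Set.range (eis d c))) = ∏ i, d i := by
  let G : Fin r → Polynomial A := fun i =>
    Polynomial.X ^ d i + (Finset.range (d i)).sum fun k => Polynomial.C (c i k) * Polynomial.X ^ k
  have hdeg : ∀ i, ((Finset.range (d i)).sum fun k => Polynomial.C (c i k) * Polynomial.X ^ k).degree < (d i : WithBot ℕ) :=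
    fun i => (Polynomial.degree_sum_le _ _).trans_lt <| (Finset.sup_lt_iff (WithBot.bot_lt_coe _)).mpr fun k hk =>
      (Polynomial.degree_C_mul_X_pow_le k (c i k)).trans_lt (WithBot.coe_lt_coe.mpr (Finset.mem_range.mp hk))
  obtain ⟨h1, h2, h3⟩ := free_quotient G (fun i => Polynomial.monic_X_pow_add (hdeg i)) (eis d c) fun i => by
    simp [eis, G, map_add, map_sum, map_mul, map_pow, MvPolynomial.algebraMap_eq]
  refine ⟨h1, h2, h3.trans (Finset.prod_congr rfl fun i _ => ?_)⟩
  refine Polynomial.natDegree_eq_of_degree_eq_some ?_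
  rw [Polynomial.degree_add_eq_left_of_degree_lt (by rw [Polynomial.degree_X_pow]; exact hdeg i), Polynomial.degree_X_pow]

include hd in
theorem injective_eis : Function.Injective
    (algebraMap A (MvPolynomial (Fin r) A ⧸ Ideal.span (Set.range (eis d c)))) := by
  obtain ⟨h1, h2, h3⟩ := free_eis d c
  haveI := h1
  haveI := h2
  let b := Module.Free.chooseBasis A (MvPolynomial (Fin r) A ⧸ Ideal.span (Set.range (eis d c)))
  have hpos : 0 < ∏ i, d i := Finset.prod_pos fun i _ => lt_of_lt_of_le two_pos (hd i)
  rw [← h3, Module.finrank_eq_card_basis b, Fintype.card_pos_iff] at hpos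
  obtain ⟨j⟩ := hpos
  refine (injective_iff_map_eq_zero _).mpr fun a ha => ?_
  have h : a • b j = 0 := (Algebra.smul_def a (b j)).trans (by rw [ha]; exact zero_mul _)
  have := congrArg (fun v => b.repr v j) h
  simpa using this

include hd hc in
theorem sub_mem_sq (i : Fin r) :
    eis d c i - MvPolynomial.C (c i 0) ∈ originIdeal A r ^ 2 := by
  classical
  have hX : (MvPolynomial.X i : MvPolynomial (Fin r) A) ∈ originIdeal A r := by
    rw [Ideal.mem_comap, MvPolynomial.constantCoeff_X]; exact zero_mem _
  have hC : ∀ k, (MvPolynomial.C (c i k) : MvPolynomial (Fin r) A) ∈ originIdeal A r := fun k => by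
    rw [Ideal.mem_comap, MvPolynomial.constantCoeff_C]; exact hc i k
  rw [← Ideal.Quotient.eq, map_add, map_sum, Finset.sum_eq_single 0]
  · rw [pow_zero, mul_one, add_eq_right, Ideal.Quotient.eq_zero_iff_mem]
    exact Ideal.pow_le_pow_right (hd i) (Ideal.pow_mem_pow hX _)
  · intro k _ hk
    obtain ⟨k, rfl⟩ := Nat.exists_eq_succ_of_ne_zero hk
    rw [Ideal.Quotient.eq_zero_iff_mem, pow_two, pow_succ, ← mul_assoc]
    exact Ideal.mul_mem_mul (Ideal.mul_mem_right _ _ (hC _)) hX
  · intro h
    exact absurd (Finset.mem_range.mpr (lt_of_lt_of_le two_pos (hd i))) h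

include hd hc in
theorem eis_mem_origin (i : Fin r) : eis d c i ∈ originIdeal A r := by
  rw [← sub_add_cancel (eis d c i) (MvPolynomial.C (c i 0))]
  refine add_mem (Ideal.pow_le_self two_ne_zero (sub_mem_sq d hd c hc i)) ?_
  rw [Ideal.mem_comap, MvPolynomial.constantCoeff_C]
  exact hc i 0

include hd hc in
/-- The quotient is local, with the origin as closed point. -/
theorem local_eis :
    ∃ _ : IsLocalRing (MvPolynomial (Fin r) A ⧸ Ideal.span (Set.range (eis d c))),
      originIdeal A r = (maximalIdeal (MvPolynomial (Fin r) A ⧸ Ideal.span (Set.range (eis d c)))).comap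
        (Ideal.Quotient.mk _) := by
  let P := MvPolynomial (Fin r) A
  let I := Ideal.span (Set.range (eis d c))
  let B := P ⧸ I
  haveI : Module.Finite A B := (free_eis d c).2.1
  haveI : Algebra.IsIntegral A B := Algebra.IsIntegral.of_finite A B
  have hI : I ≤ originIdeal A r := Ideal.span_le.mpr (Set.range_subset_iff.mpr (eis_mem_origin d hd c hc))
  let N : Ideal B := (originIdeal A r).map (Ideal.Quotient.mk I)
  have hN : N.comap (Ideal.Quotient.mk I) = originIdeal A r := by
    rw [Ideal.comap_map_of_surjective _ Ideal.Quotient.mk_surjective, ← RingHom.ker_eq_comap_bot, Ideal.mk_ker]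
    exact sup_of_le_left hI
  have key : ∀ M : Ideal B, M.IsMaximal → N ≤ M := fun M hM => by
    letI : CommRing (B ⧸ M) := Ideal.Quotient.commRing M
    let q : P →+* B ⧸ M := (Ideal.Quotient.mk M).comp (Ideal.Quotient.mk I)
    have hA : ∀ a ∈ maximalIdeal A, q (MvPolynomial.C a) = 0 := fun a ha => by
      have h := IsLocalRing.eq_maximalIdeal (Ideal.isMaximal_comap_of_isIntegral_of_isMaximal (R := A) M)
      rw [← h] at ha
      exact Ideal.Quotient.eq_zero_iff_mem.mpr ha
    have hX : ∀ i, q (MvPolynomial.X i) = 0 := fun i => by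
      haveI := hM.isPrime
      have h : q (eis d c i) = 0 := by
        show Ideal.Quotient.mk M (Ideal.Quotient.mk I _) = 0
        rw [show Ideal.Quotient.mk I (eis d c i) = 0 from
          Ideal.Quotient.eq_zero_iff_mem.mpr (Ideal.subset_span (Set.mem_range_self i)), map_zero]
      rw [map_add, map_pow, map_sum, Finset.sum_eq_zero fun k _ => by rw [map_mul, hA _ (hc i k), zero_mul],
        add_zero] at h
      exact pow_eq_zero_iff (lt_of_lt_of_le two_pos (hd i)).ne' |>.mp h
    have hq : q = (q.comp MvPolynomial.C).comp MvPolynomial.constantCoeff :=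
      MvPolynomial.ringHom_ext (fun a => by
          rw [RingHom.comp_apply _ MvPolynomial.constantCoeff, MvPolynomial.constantCoeff_C]; rfl)
        fun i => by rw [RingHom.comp_apply _ MvPolynomial.constantCoeff, MvPolynomial.constantCoeff_X, map_zero, hX]
    refine Ideal.map_le_iff_le_comap.mpr fun z hz => ?_
    show Ideal.Quotient.mk I z ∈ M
    rw [← Ideal.Quotient.eq_zero_iff_mem]
    show q z = 0
    rw [hq]
    exact hA _ hz
  have hNmax : N.IsMaximal := (Ideal.map_eq_top_or_isMaximal_of_surjective _ Ideal.Quotient.mk_surjective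
    (isMaximal_originIdeal A r)).resolve_left fun h => by
      refine (isMaximal_originIdeal A r).ne_top ?_
      rw [← hN, show N = ⊤ from h, Ideal.comap_top]
  have huniq : ∀ M : Ideal B, M.IsMaximal → M = N := fun M hM => (hNmax.eq_of_le hM.ne_top (key M hM)).symm
  haveI hloc : IsLocalRing B := IsLocalRing.of_unique_max_ideal ⟨N, hNmax, huniq⟩
  refine ⟨hloc, ?_⟩
  rw [huniq _ (maximalIdeal.isMaximal B), hN]

end Groth.Agent.EGA41Quot
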