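/-
Equations of the form `T ^ p + p (...) - f` in separate variables.
-/
import Mathlib
import Groth.Agent.EGA41Quot.SepVar
import Groth.Prelude.Def_EGA41

set_option autoImplicit false
universe u

namespace Groth.Agent.EGA41Quot

open IsLocalRing

/-- An equation `T ^ p + p (...) - f`. -/
noncomputable abbrev ppoly {A : Type u} [CommRing A] (p : ℕ) {ι : Type*} (c : ι → Fin p → A) (f : ι → A) (i : ι) :
    MvPolynomial ι A :=
  MvPolynomial.X i ^ p + (p : MvPolynomial ι A) * (Finset.univ.sum fun j : Fin p =>
    if (j : ℕ) = 0 then 0 else MvPolynomial.C (c i j) * MvPolynomial.X i ^ (p - (j : ℕ))) - MvPolynomial.C (f i)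

section General

variable {A : Type u} [CommRing A] (p : ℕ) [Fact p.Prime] {ι : Type*} (c : ι → Fin p → A) (f : ι → A)

theorem eval_ppoly {S : Type*} [CommRing S] (g : MvPolynomial ι A →+* S) (hp : (p : S) = 0) (i : ι) :
    g (ppoly p c f i) = g (MvPolynomial.X i) ^ p - g (MvPolynomial.C (f i)) := by
  rw [map_sub, map_add, map_pow, map_mul, map_natCast, hp, zero_mul, add_zero]

theorem free_ppoly [Nontrivial A] {r : ℕ} (c : Fin r → Fin p → A) (f : Fin r → A) :
    Module.Free A (MvPolynomial (Fin r) A ⧸ Ideal.span (Set.range (ppoly p c f))) ∧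
      Module.Finite A (MvPolynomial (Fin r) A ⧸ Ideal.span (Set.range (ppoly p c f))) ∧
      Module.finrank A (MvPolynomial (Fin r) A ⧸ Ideal.span (Set.range (ppoly p c f))) = ∏ _i : Fin r, p := by
  classical
  have hp0 : 0 < p := (Fact.out : p.Prime).pos
  let rest : Fin r → Polynomial A := fun i => (p : Polynomial A) * (Finset.univ.sum fun j : Fin p =>
    if (j : ℕ) = 0 then 0 else Polynomial.C (c i j) * Polynomial.X ^ (p - (j : ℕ))) - Polynomial.C (f i)
  have hdeg : ∀ i, (rest i).degree < (p : WithBot ℕ) := fun i => by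
    refine (Polynomial.degree_sub_le _ _).trans_lt (max_lt ?_ ((Polynomial.degree_C_le).trans_lt ?_))
    · rw [← Polynomial.C_eq_natCast]
      refine (Polynomial.degree_mul_le _ _).trans_lt ?_
      refine lt_of_le_of_lt (add_le_add Polynomial.degree_C_le le_rfl) ?_
      rw [zero_add]
      refine (Polynomial.degree_sum_le _ _).trans_lt ((Finset.sup_lt_iff (WithBot.bot_lt_coe _)).mpr fun j _ => ?_)
      split_ifs with hj
      · rw [Polynomial.degree_zero]; exact WithBot.bot_lt_coe _
      · refine (Polynomial.degree_C_mul_X_pow_le _ _).trans_lt ?_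
        exact WithBot.coe_lt_coe.mpr (show p - (j : ℕ) < p by omega)
    · exact_mod_cast hp0
  let G : Fin r → Polynomial A := fun i => Polynomial.X ^ p + rest i
  obtain ⟨h1, h2, h3⟩ := free_quotient G (fun i => Polynomial.monic_X_pow_add (hdeg i)) (ppoly p c f) fun i => by
    simp only [ppoly, G, rest, map_add, map_sub, map_mul, map_pow, map_natCast, map_sum, Polynomial.aeval_X,
      Polynomial.aeval_C, apply_ite (Polynomial.aeval (MvPolynomial.X i : MvPolynomial (Fin r) A)), map_zero,
      MvPolynomial.algebraMap_eq]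
    abel
  refine ⟨h1, h2, h3.trans (Finset.prod_congr rfl fun i _ => ?_)⟩
  refine Polynomial.natDegree_eq_of_degree_eq_some ?_
  rw [Polynomial.degree_add_eq_left_of_degree_lt (by rw [Polynomial.degree_X_pow]; exact hdeg i), Polynomial.degree_X_pow]

theorem injective_ppoly [Nontrivial A] {r : ℕ} (c : Fin r → Fin p → A) (f : Fin r → A) : Function.Injective
    (algebraMap A (MvPolynomial (Fin r) A ⧸ Ideal.span (Set.range (ppoly p c f)))) := by
  obtain ⟨h1, h2, h3⟩ := free_ppoly p c f
  haveI := h1
  haveI := h2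
  let b := Module.Free.chooseBasis A (MvPolynomial (Fin r) A ⧸ Ideal.span (Set.range (ppoly p c f)))
  have hpos : 0 < ∏ _i : Fin r, p := Finset.prod_pos fun i _ => (Fact.out : p.Prime).pos
  rw [← h3, Module.finrank_eq_card_basis b, Fintype.card_pos_iff] at hpos
  obtain ⟨j⟩ := hpos
  refine (injective_iff_map_eq_zero _).mpr fun a ha => ?_
  have h : a • b j = 0 := (Algebra.smul_def a (b j)).trans (by rw [ha]; exact zero_mul _)
  have := congrArg (fun v => b.repr v j) h
  simpa using this

theorem isIntegral_ppoly : Algebra.IsIntegral A (MvPolynomial ι A ⧸ Ideal.span (Set.range (ppoly p c f))) := by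
  classical
  let I := Ideal.span (Set.range (ppoly p c f))
  have hX : ∀ i, IsIntegral A (Ideal.Quotient.mkₐ A I (MvPolynomial.X i)) := fun i => by
    let rest : Polynomial A := (p : Polynomial A) * (Finset.univ.sum fun j : Fin p =>
      if (j : ℕ) = 0 then 0 else Polynomial.C (c i j) * Polynomial.X ^ (p - (j : ℕ))) - Polynomial.C (f i)
    have hp0 : 0 < p := (Fact.out : p.Prime).pos
    have hdeg : rest.degree < (p : WithBot ℕ) := by
      refine (Polynomial.degree_sub_le _ _).trans_lt (max_lt ?_ ((Polynomial.degree_C_le).trans_lt ?_))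
      · rw [← Polynomial.C_eq_natCast]
        refine (Polynomial.degree_mul_le _ _).trans_lt ?_
        refine lt_of_le_of_lt (add_le_add Polynomial.degree_C_le le_rfl) ?_
        rw [zero_add]
        refine (Polynomial.degree_sum_le _ _).trans_lt ((Finset.sup_lt_iff (WithBot.bot_lt_coe _)).mpr fun j _ => ?_)
        split_ifs with hj
        · rw [Polynomial.degree_zero]; exact WithBot.bot_lt_coe _
        · refine (Polynomial.degree_C_mul_X_pow_le _ _).trans_lt ?_
          exact WithBot.coe_lt_coe.mpr (show p - (j : ℕ) < p by omega)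
      · exact_mod_cast hp0
    refine ⟨Polynomial.X ^ p + rest, Polynomial.monic_X_pow_add hdeg, ?_⟩
    rw [← Polynomial.aeval_def, Polynomial.aeval_algHom_apply]
    refine Ideal.Quotient.eq_zero_iff_mem.mpr (Ideal.subset_span ⟨i, ?_⟩)
    simp only [ppoly, rest, map_add, map_sub, map_mul, map_pow, map_natCast, map_sum, Polynomial.aeval_X,
      Polynomial.aeval_C, apply_ite (Polynomial.aeval (MvPolynomial.X i : MvPolynomial ι A)), map_zero,
      MvPolynomial.algebraMap_eq]
    abel
  refine ⟨fun b => ?_⟩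
  obtain ⟨z, rfl⟩ := Ideal.Quotient.mk_surjective b
  induction z using MvPolynomial.induction_on with
  | C a => exact isIntegral_algebraMap (R := A) (x := a)
  | add u v hu hv => rw [map_add]; exact hu.add hv
  | mul_X u i hu => rw [map_mul]; exact hu.mul (hX i)

end General

section Local

variable {A : Type u} [CommRing A] [IsLocalRing A] (p : ℕ) [Fact p.Prime] [CharP (ResidueField A) p]
  {ι : Type*} (c : ι → Fin p → A) (f : ι → A)

theorem natCast_mem : (p : A) ∈ maximalIdeal A := by
  rw [← residue_eq_zero_iff, map_natCast]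
  exact CharP.cast_eq_zero _ p

/-- A point over the algebraic closure of the residue field. -/
theorem exists_point :
    ∃ g : MvPolynomial ι A ⧸ Ideal.span (Set.range (ppoly p c f)) →+* AlgebraicClosure (ResidueField A),
      (∀ a, g (algebraMap A _ a) = algebraMap (ResidueField A) _ (residue A a)) ∧
      ∀ i, g (Ideal.Quotient.mk _ (MvPolynomial.X i)) ^ p = algebraMap (ResidueField A) _ (residue A (f i)) := by
  let Ω := AlgebraicClosure (ResidueField A)
  choose x hx using fun i => IsAlgClosed.exists_pow_nat_eq (algebraMap (ResidueField A) Ω (residue A (f i)))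
    (Fact.out : p.Prime).pos
  let g0 : MvPolynomial ι A →+* Ω := MvPolynomial.eval₂Hom ((algebraMap (ResidueField A) Ω).comp (residue A)) x
  refine ⟨Ideal.Quotient.lift _ g0 fun z hz => ?_, fun a => MvPolynomial.eval₂Hom_C _ _ _, fun i => ?_⟩
  · refine (show Ideal.span (Set.range (ppoly p c f)) ≤ RingHom.ker g0 from Ideal.span_le.mpr ?_) hz
    rintro _ ⟨i, rfl⟩
    show g0 (ppoly p c f i) = 0
    have hp : (p : Ω) = 0 := by
      rw [← map_natCast (algebraMap (ResidueField A) Ω), CharP.cast_eq_zero (ResidueField A) p, map_zero]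
    rw [eval_ppoly p c f g0 hp, MvPolynomial.eval₂Hom_X', MvPolynomial.eval₂Hom_C, hx]
    exact sub_self _
  · show g0 (MvPolynomial.X i) ^ p = _
    rw [MvPolynomial.eval₂Hom_X']
    exact hx i

/-- The quotient is local. -/
theorem local_ppoly :
    IsLocalRing (MvPolynomial ι A ⧸ Ideal.span (Set.range (ppoly p c f))) ∧
    ∀ b : MvPolynomial ι A ⧸ Ideal.span (Set.range (ppoly p c f)), ∃ a : A,
      b ^ p - algebraMap A _ a ∈ (maximalIdeal A).map (algebraMap A _) := by
  let I := Ideal.span (Set.range (ppoly p c f))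
  let B := MvPolynomial ι A ⧸ I
  let mB := (maximalIdeal A).map (algebraMap A B)
  have hp : (p : B) ∈ mB := by
    rw [← map_natCast (algebraMap A B)]
    exact Ideal.mem_map_of_mem _ (natCast_mem p)
  have key : ∀ b : B, ∃ a : A, b ^ p - algebraMap A B a ∈ mB := fun b => by
    obtain ⟨z, rfl⟩ := Ideal.Quotient.mk_surjective b
    induction z using MvPolynomial.induction_on with
    | C a =>
      refine ⟨a ^ p, ?_⟩
      rw [map_pow]
      show Ideal.Quotient.mk I (MvPolynomial.C a) ^ p - Ideal.Quotient.mk I (MvPolynomial.C a) ^ p ∈ mB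
      rw [sub_self]
      exact zero_mem _
    | add u v hu hv =>
      obtain ⟨a, ha⟩ := hu
      obtain ⟨a', ha'⟩ := hv
      obtain ⟨w, hw⟩ := exists_add_pow_prime_eq (Fact.out : p.Prime) (Ideal.Quotient.mk I u) (Ideal.Quotient.mk I v)
      refine ⟨a + a', ?_⟩
      rw [map_add, hw, map_add]
      rw [show ∀ x y m s t : B, x + y + m - (s + t) = (x - s) + (y - t) + m from fun _ _ _ _ _ => by ring]
      exact add_mem (add_mem ha ha') (by rw [mul_assoc, mul_assoc]; exact Ideal.mul_mem_right _ _ hp)
    | mul_X u i hu =>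
      obtain ⟨a, ha⟩ := hu
      refine ⟨a * f i, ?_⟩
      have hX : Ideal.Quotient.mk I (MvPolynomial.X i) ^ p - algebraMap A B (f i) ∈ mB := by
        letI : CommRing (B ⧸ mB) := Ideal.Quotient.commRing mB
        have h0 : Ideal.Quotient.mk mB (Ideal.Quotient.mk I (ppoly p c f i)) = 0 := by
          rw [show Ideal.Quotient.mk I (ppoly p c f i) = 0 from
            Ideal.Quotient.eq_zero_iff_mem.mpr (Ideal.subset_span (Set.mem_range_self i)), map_zero]
        have h1 := eval_ppoly p c f ((Ideal.Quotient.mk mB).comp (Ideal.Quotient.mk I))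
          (by rw [← map_natCast (Ideal.Quotient.mk mB)]; exact Ideal.Quotient.eq_zero_iff_mem.mpr hp) i
        rw [RingHom.comp_apply, h0, RingHom.comp_apply, RingHom.comp_apply, ← map_pow, ← map_sub] at h1
        exact Ideal.Quotient.eq_zero_iff_mem.mp h1.symm
      rw [map_mul, mul_pow, map_mul,
        show ∀ x y s t : B, x * y - s * t = (x - s) * y + s * (y - t) from fun _ _ _ _ => by ring]
      exact add_mem (Ideal.mul_mem_right _ _ ha) (Ideal.mul_mem_left _ _ hX)
  obtain ⟨g, -, -⟩ := exists_point p c f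
  haveI : Nontrivial B := g.domain_nontrivial
  haveI : Algebra.IsIntegral A B := isIntegral_ppoly p c f
  refine ⟨?_, key⟩
  have hle : ∀ M : Ideal B, M.IsMaximal → mB ≤ M ∧ ∀ a, algebraMap A B a ∈ M → a ∈ maximalIdeal A := fun M hM => by
    have h := IsLocalRing.eq_maximalIdeal (Ideal.isMaximal_comap_of_isIntegral_of_isMaximal (R := A) M)
    exact ⟨Ideal.map_le_iff_le_comap.mpr h.ge, fun a ha => h.le ha⟩
  obtain ⟨M, hM⟩ := Ideal.exists_maximal B
  refine IsLocalRing.of_unique_max_ideal ⟨M, hM, fun M' hM' => hM'.eq_of_le hM.ne_top fun b hb => ?_⟩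
  obtain ⟨a, ha⟩ := key b
  haveI := hM.isPrime
  have h1 : a ∈ maximalIdeal A := (hle M' hM').2 a (by
    have := sub_mem (Ideal.pow_mem_of_mem M' hb p (Fact.out : p.Prime).pos) ((hle M' hM').1 ha)
    rwa [sub_sub_cancel] at this)
  have h2 := add_mem ((hle M hM).1 ha) ((hle M hM).1 (Ideal.mem_map_of_mem _ h1))
  rw [sub_add_cancel] at h2
  exact ‹M.IsPrime›.mem_of_pow_mem _ h2

end Local

end Groth.Agent.EGA41Quot
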