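/-
Independence of equations `T ^ p + p (...) - f` in the cotangent space, in terms of differentials.
-/
import Mathlib
import Groth.Agent.EGA41Quot.PPoly
import Groth.Agent.FSField.Basic

set_option autoImplicit false
universe u

namespace Groth.Agent.EGA41Quot

open IsLocalRing TensorProduct

attribute [local instance 2000] Ring.toIntAlgebra

/-- Independence is insensitive to field extensions. -/
theorem linearIndependent_tmul_iff {K L V : Type u} [Field K] [Field L] [Algebra K L] [AddCommGroup V] [Module K V]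
    {ι : Type*} (v : ι → V) :
    LinearIndependent K v ↔ LinearIndependent L (fun i => (1 : L) ⊗ₜ[K] v i) := by
  constructor
  · intro hv
    have h := ((Module.Basis.sumExtend hv).baseChange L).linearIndependent.comp Sum.inl Sum.inl_injective
    convert h using 1
    funext i
    simp [Module.Basis.sumExtend]
    rfl
  · intro h
    exact LinearIndependent.of_comp (TensorProduct.mk K L V 1)
      (h.restrict_scalars (fun a b hab => (algebraMap K L).injective (by simpa [Algebra.smul_def] using hab)))

/-- Independence in a base change to a field passes to extension fields. -/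
theorem linearIndependent_baseChange_iff {A K L M : Type u} [CommRing A] [Field K] [Field L] [Algebra A K]
    [Algebra K L] [Algebra A L] [IsScalarTower A K L] [AddCommGroup M] [Module A M] {ι : Type*} (x : ι → M) :
    LinearIndependent K (fun i => (1 : K) ⊗ₜ[A] x i) ↔ LinearIndependent L (fun i => (1 : L) ⊗ₜ[A] x i) := by
  rw [linearIndependent_tmul_iff (L := L)]
  let e := AlgebraTensorModule.cancelBaseChange A K L L M
  have h : (fun i => (1 : L) ⊗ₜ[A] x i) = fun i => e ((1 : L) ⊗ₜ[K] ((1 : K) ⊗ₜ[A] x i)) := funext fun i => by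
    rw [AlgebraTensorModule.cancelBaseChange_tmul, one_smul]
  rw [h]
  exact (LinearMap.linearIndependent_iff e.toLinearMap e.ker).symm

/-- A section modulo a square-zero ideal turns relations between differentials into relations. -/
theorem sum_section_eq_zero {A L S : Type u} [CommRing A] [Field L] [CommRing S] [Algebra A L] (g : A →+* S)
    (σ : L →+* S) (res : S →+* L) (hres : ∀ x, res (σ x) = x) (hg : ∀ a, res (g a) = algebraMap A L a)
    (hsq : ∀ u v : S, res u = 0 → res v = 0 → u * v = 0) {ι : Type*} [Fintype ι] (f : ι → A) (cf : ι → L)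
    (hrel : ∑ i, cf i • ((1 : L) ⊗ₜ[A] KaehlerDifferential.D ℤ A (f i)) = 0) :
    ∑ i, σ (cf i) * (g (f i) - σ (algebraMap A L (f i))) = 0 := by
  letI : Algebra L S := σ.toAlgebra
  letI : Algebra A S := (σ.comp (algebraMap A L)).toAlgebra
  haveI : IsScalarTower A L S := IsScalarTower.of_algebraMap_eq fun _ => rfl
  let δ : A → S := fun a => g a - σ (algebraMap A L a)
  have hδ0 : ∀ a, res (δ a) = 0 := fun a => by rw [map_sub, hg, hres, sub_self]
  have hmul : ∀ a b, δ (a * b) = σ (algebraMap A L a) * δ b + σ (algebraMap A L b) * δ a := fun a b => by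
    have h := hsq _ _ (hδ0 a) (hδ0 b)
    simp only [δ] at h ⊢
    rw [map_mul, map_mul, map_mul]
    linear_combination h
  let δh : A →+ S := AddMonoidHom.mk' δ fun a b => by
    simp only [δ, map_add]; abel
  let D : Derivation ℤ A S := Derivation.mk' δh.toIntLinearMap fun a b => by
    show δ (a * b) = a • δ b + b • δ a
    rw [hmul]
    rfl
  have h := congrArg (LinearMap.liftBaseChange L D.liftKaehlerDifferential) hrel
  rw [map_zero, map_sum] at h
  rw [← h]
  refine Finset.sum_congr rfl fun i _ => ?_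
  rw [map_smul, LinearMap.liftBaseChange_tmul, one_smul, Derivation.liftKaehlerDifferential_comp_D]
  rfl

/-- The universal first order deformation of a ring map to a field. -/
theorem exists_deformation_hom (A L : Type u) [CommRing A] [Field L] [Algebra A L] :
    ∃ φ : A →+* TrivSqZeroExt L (L ⊗[A] Ω[A⁄ℤ]), ∀ a, (φ a).fst = algebraMap A L a ∧
      (φ a).snd = (1 : L) ⊗ₜ[A] KaehlerDifferential.D ℤ A a := by
  let M := L ⊗[A] Ω[A⁄ℤ]
  let F : A → TrivSqZeroExt L M := fun a =>
    TrivSqZeroExt.inl (algebraMap A L a) + TrivSqZeroExt.inr ((1 : L) ⊗ₜ[A] KaehlerDifferential.D ℤ A a)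
  have hfst : ∀ a, (F a).fst = algebraMap A L a := fun a => by simp [F]
  have hsnd : ∀ a, (F a).snd = (1 : L) ⊗ₜ[A] KaehlerDifferential.D ℤ A a := fun a => by simp [F]
  have hs : ∀ (a : A) (x : Ω[A⁄ℤ]), (1 : L) ⊗ₜ[A] (a • x) = algebraMap A L a • ((1 : L) ⊗ₜ[A] x) := fun a x => by
    rw [TensorProduct.tmul_smul, TensorProduct.smul_tmul', TensorProduct.smul_tmul', Algebra.smul_def, smul_eq_mul]
  refine ⟨RingHom.mk' ⟨⟨F, ?_⟩, fun a b => ?_⟩ fun a b => ?_, fun a => ⟨hfst a, hsnd a⟩⟩
  · ext <;> simp [hfst, hsnd]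
  · ext
    · simp [hfst]
    · show (F (a * b)).snd = (F a * F b).snd
      rw [TrivSqZeroExt.snd_mul, hsnd, hfst, hfst, hsnd, hsnd, Derivation.leibniz, TensorProduct.tmul_add, hs, hs,
        op_smul_eq_smul]
  · ext
    · simp [hfst]
    · simp [hsnd, TensorProduct.tmul_add]

/-- Independent differentials give independent equations. -/
theorem mem_maximalIdeal_of_independent {A L : Type u} [CommRing A] [Field L] [Algebra A L] (p : ℕ) [Fact p.Prime]
    [CharP L p] {r : ℕ} (c : Fin r → Fin p → A) (f : Fin r → A) (n : Ideal (MvPolynomial (Fin r) A)) [n.IsPrime]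
    (res : Localization.AtPrime n →+* L)
    (hres : ∀ z, res z = 0 ↔ z ∈ maximalIdeal (Localization.AtPrime n))
    (hA : ∀ x, res (algebraMap (MvPolynomial (Fin r) A) (Localization.AtPrime n) (MvPolynomial.C x)) = algebraMap A L x) (t : Fin r → L)
    (htX : ∀ i, res (algebraMap (MvPolynomial (Fin r) A) (Localization.AtPrime n) (MvPolynomial.X i)) = t i) (ht : ∀ i, t i ^ p = algebraMap A L (f i))
    (hli : ∀ g : Fin r → L, ∑ i, g i • ((1 : L) ⊗ₜ[A] KaehlerDifferential.D ℤ A (f i)) = 0 → ∀ i, g i = 0)
    (a : Fin r → Localization.AtPrime n)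
    (ha : ∑ i, a i * algebraMap _ (Localization.AtPrime n) (ppoly p c f i) ∈ maximalIdeal (Localization.AtPrime n) ^ 2) :
    ∀ i, a i ∈ maximalIdeal (Localization.AtPrime n) := by
  let P := MvPolynomial (Fin r) A
  let R := Localization.AtPrime n
  obtain ⟨φA, hφA⟩ := exists_deformation_hom A L
  let φP : P →+* TrivSqZeroExt L (L ⊗[A] Ω[A⁄ℤ]) := MvPolynomial.eval₂Hom φA fun i => TrivSqZeroExt.inl (t i)
  have hfstP : ∀ z, (φP z).fst = res (algebraMap P R z) := fun z => by
    have h : (TrivSqZeroExt.fstHom L L (L ⊗[A] Ω[A⁄ℤ])).toRingHom.comp φP = (res).comp (algebraMap P R) :=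
      MvPolynomial.ringHom_ext (fun x => by
        show (φP (MvPolynomial.C x)).fst = _
        rw [show φP (MvPolynomial.C x) = φA x from MvPolynomial.eval₂Hom_C _ _ _]
        exact (hφA x).1.trans (hA x).symm) fun i => by
        show (φP (MvPolynomial.X i)).fst = _
        rw [show φP (MvPolynomial.X i) = TrivSqZeroExt.inl (t i) from MvPolynomial.eval₂Hom_X' _ _ _]
        exact (htX i).symm
    exact DFunLike.congr_fun h z
  let φ : R →+* TrivSqZeroExt L (L ⊗[A] Ω[A⁄ℤ]) := IsLocalization.lift (M := n.primeCompl) (g := φP) fun s => by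
    rw [TrivSqZeroExt.isUnit_iff_isUnit_fst, hfstP]
    exact (IsLocalization.map_units R s).map (res)
  have hφ : ∀ z, φ (algebraMap P R z) = φP z := fun z => IsLocalization.lift_eq _ z
  have hfst : ∀ z, (φ z).fst = res z := fun z => by
    have h : (TrivSqZeroExt.fstHom L L (L ⊗[A] Ω[A⁄ℤ])).toRingHom.comp φ = res :=
      IsLocalization.ringHom_ext n.primeCompl (RingHom.ext fun w => by
        show (φ (algebraMap P R w)).fst = _
        rw [hφ, hfstP]; rfl)
    exact DFunLike.congr_fun h z
  have hpE : (p : TrivSqZeroExt L (L ⊗[A] Ω[A⁄ℤ])) = 0 := by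
    rw [← map_natCast (TrivSqZeroExt.inlHom L (L ⊗[A] Ω[A⁄ℤ])), CharP.cast_eq_zero L p, map_zero]
  have hφF : ∀ i, φ (algebraMap P R (ppoly p c f i)) =
      TrivSqZeroExt.inr (-((1 : L) ⊗ₜ[A] KaehlerDifferential.D ℤ A (f i))) := fun i => by
    rw [hφ, eval_ppoly p c f φP hpE, show φP (MvPolynomial.X i) = TrivSqZeroExt.inl (t i) from
      MvPolynomial.eval₂Hom_X' _ _ _, show φP (MvPolynomial.C (f i)) = φA (f i) from MvPolynomial.eval₂Hom_C _ _ _,
      show (TrivSqZeroExt.inl (t i) : TrivSqZeroExt L (L ⊗[A] Ω[A⁄ℤ])) ^ p = TrivSqZeroExt.inl (t i ^ p) from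
        (map_pow (TrivSqZeroExt.inlHom L (L ⊗[A] Ω[A⁄ℤ])) (t i) p).symm, ht]
    ext
    · simp [(hφA (f i)).1]
    · simp [(hφA (f i)).2]
  have hm : ∀ z ∈ maximalIdeal R ^ 2, φ z = 0 := fun z hz => by
    rw [pow_two] at hz
    refine Submodule.mul_induction_on hz (fun u hu v hv => ?_) fun u v hu hv => by rw [map_add, hu, hv, add_zero]
    have hu' : (φ u).fst = 0 := by rw [hfst]; exact (hres u).mpr hu
    have hv' : (φ v).fst = 0 := by rw [hfst]; exact (hres v).mpr hv
    rw [map_mul]
    ext
    · simp [hu']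
    · simp [TrivSqZeroExt.snd_mul, hu', hv']
  have h0 := hm _ ha
  rw [map_sum, Finset.sum_congr rfl fun i _ => (map_mul φ _ _).trans (congrArg (φ (a i) * ·) (hφF i))] at h0
  have h := congrArg TrivSqZeroExt.snd h0
  simp only [ TrivSqZeroExt.snd_sum, TrivSqZeroExt.snd_mul, TrivSqZeroExt.fst_inr,
    TrivSqZeroExt.snd_inr, MulOpposite.op_zero, zero_smul, add_zero, hfst, smul_neg, Finset.sum_neg_distrib,
    TrivSqZeroExt.snd_zero, neg_eq_zero] at h
  intro i
  exact (hres _).mp (hli (fun j => res (a j)) h i)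

/-- The criterion. -/
theorem ppoly_condition_iff {A : Type u} [CommRing A] [IsLocalRing A] (p : ℕ) [Fact p.Prime]
    [CharP (ResidueField A) p] (hp2 : (p : A) ∈ maximalIdeal A ^ 2) {r : ℕ} (c : Fin r → Fin p → A) (f : Fin r → A)
    (n : Ideal (MvPolynomial (Fin r) A)) [n.IsMaximal] (hnA : n.comap MvPolynomial.C = maximalIdeal A)
    (hF : ∀ i, ppoly p c f i ∈ n) :
    (∀ a : Fin r → Localization.AtPrime n,
        ∑ i, a i * algebraMap _ (Localization.AtPrime n) (ppoly p c f i) ∈ maximalIdeal (Localization.AtPrime n) ^ 2 →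
          ∀ i, a i ∈ maximalIdeal (Localization.AtPrime n)) ↔
      LinearIndependent (ResidueField A) (fun i => (1 : ResidueField A) ⊗ₜ[A] KaehlerDifferential.D ℤ A (f i)) := by
  classical
  let P := MvPolynomial (Fin r) A
  let R := Localization.AtPrime n
  let L := ResidueField R
  let gA : A →+* R := (algebraMap P R).comp MvPolynomial.C
  have hgAm : ∀ a ∈ maximalIdeal A, gA a ∈ maximalIdeal R := fun a ha =>
    (IsLocalization.AtPrime.to_map_mem_maximal_iff R n _).mpr (hnA.ge ha)
  haveI : IsLocalHom gA := ((local_hom_TFAE gA).out 0 3).mpr hgAm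
  letI : Algebra A L := ((residue R).comp gA).toAlgebra
  letI : Algebra (ResidueField A) L := (ResidueField.map gA).toAlgebra
  haveI : IsScalarTower A (ResidueField A) L := IsScalarTower.of_algebraMap_eq fun _ => rfl
  rw [linearIndependent_baseChange_iff (L := L), Fintype.linearIndependent_iff]
  have hpR : (p : R) ∈ maximalIdeal R ^ 2 := by
    rw [← map_natCast gA]
    have h := Ideal.mem_map_of_mem gA hp2
    rw [Ideal.map_pow] at h
    exact Ideal.pow_right_mono (Ideal.map_le_iff_le_comap.mpr hgAm) 2 h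
  haveI : CharP L p := charP_of_injective_algebraMap (algebraMap (ResidueField A) L).injective p
  have hFR : ∀ i, algebraMap P R (ppoly p c f i) ∈ maximalIdeal R := fun i =>
    (IsLocalization.AtPrime.to_map_mem_maximal_iff R n _).mpr (hF i)
  let t : Fin r → L := fun i => residue R (algebraMap P R (MvPolynomial.X i))
  have ht : ∀ i, t i ^ p = algebraMap A L (f i) := fun i => by
    have h := eval_ppoly p c f ((residue R).comp (algebraMap P R)) (CharP.cast_eq_zero L p) i
    rw [RingHom.comp_apply, (residue_eq_zero_iff _).mpr (hFR i)] at h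
    exact sub_eq_zero.mp h.symm
  constructor
  · -- a section modulo the square of the maximal ideal
    intro hcond cf hrel
    let S := R ⧸ maximalIdeal R ^ 2
    letI : CommRing S := Ideal.Quotient.commRing _
    let mk := Ideal.Quotient.mk (maximalIdeal R ^ 2)
    have hp : (p : S) = 0 := by
      rw [← map_natCast mk]
      exact Ideal.Quotient.eq_zero_iff_mem.mpr hpR
    let res : S →+* L := Ideal.Quotient.lift _ (residue R) fun z hz =>
      (residue_eq_zero_iff z).mpr (Ideal.pow_le_self two_ne_zero hz)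
    haveI : Nontrivial S := res.domain_nontrivial
    haveI : CharP S p := (CharP.charP_iff_prime_eq_zero Fact.out).mpr hp
    letI : Algebra (ZMod p) S := (ZMod.castHom dvd_rfl S).toAlgebra
    letI : Algebra (ZMod p) L := (ZMod.castHom dvd_rfl L).toAlgebra
    haveI : Algebra.FormallySmooth (ZMod p) L := FSField.formallySmooth_of_perfectField (ZMod p) L
    let resA : S →ₐ[ZMod p] L :=
      { res with
        commutes' := fun z => DFunLike.congr_fun (Subsingleton.elim (res.comp (algebraMap (ZMod p) S))
          (algebraMap (ZMod p) L)) z }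
    have hres0 : ∀ u : S, res u = 0 → ∃ z ∈ maximalIdeal R, mk z = u := fun u hu => by
      obtain ⟨z, rfl⟩ := Ideal.Quotient.mk_surjective u
      exact ⟨z, (residue_eq_zero_iff z).mp hu, rfl⟩
    have hsq : ∀ u v : S, res u = 0 → res v = 0 → u * v = 0 := fun u v hu hv => by
      obtain ⟨u, hu', rfl⟩ := hres0 u hu
      obtain ⟨v, hv', rfl⟩ := hres0 v hv
      rw [← map_mul]
      exact Ideal.Quotient.eq_zero_iff_mem.mpr (pow_two (maximalIdeal R) ▸ Ideal.mul_mem_mul hu' hv')
    have hsurj : Function.Surjective resA := fun y => by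
      obtain ⟨z, rfl⟩ := residue_surjective y
      exact ⟨mk z, rfl⟩
    have hnil : IsNilpotent (RingHom.ker (resA : S →+* L)) := by
      refine ⟨2, ?_⟩
      rw [pow_two, Ideal.zero_eq_bot, ← le_bot_iff, Ideal.mul_le]
      exact fun u hu v hv => (Submodule.mem_bot S).mpr (hsq u v hu hv)
    let σ : L →ₐ[ZMod p] S := Algebra.FormallySmooth.liftOfSurjective (AlgHom.id (ZMod p) L) resA hsurj hnil
    have hσ : ∀ x, res (σ x) = x := fun x => Algebra.FormallySmooth.liftOfSurjective_apply _ resA hsurj hnil x
    have h0 := sum_section_eq_zero (A := A) (S := S) (mk.comp gA) σ.toRingHom res hσ (fun a => rfl) hsq f cf hrel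
    choose a ha using fun i => residue_surjective (cf i)
    have hF' : ∀ i, mk (algebraMap P R (ppoly p c f i)) = σ (algebraMap A L (f i)) - mk (gA (f i)) := fun i => by
      have h := eval_ppoly p c f (mk.comp (algebraMap P R)) hp i
      rw [RingHom.comp_apply, RingHom.comp_apply, RingHom.comp_apply] at h
      rw [h]
      congr 1
      haveI : ExpChar S p := ExpChar.prime Fact.out
      have hε : res (mk (algebraMap P R (MvPolynomial.X i)) - σ (t i)) = 0 := by
        rw [map_sub, hσ]; exact sub_self _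
      have h2 : (mk (algebraMap P R (MvPolynomial.X i)) - σ (t i)) ^ p = 0 := by
        obtain ⟨k, hk⟩ := Nat.exists_eq_add_of_le (Fact.out : p.Prime).two_le
        refine (congrArg (fun j => (mk (algebraMap P R (MvPolynomial.X i)) - σ (t i)) ^ j) hk).trans ?_
        show _ ^ (2 + k) = 0
        rw [pow_add]
        exact mul_eq_zero_of_left ((pow_two _).trans (hsq _ _ hε hε)) _
      rw [sub_pow_char, sub_eq_zero] at h2
      rw [h2, ← map_pow, ht]
    have hsum : mk (∑ i, a i * algebraMap P R (ppoly p c f i)) = 0 := by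
      rw [map_sum, ← neg_eq_zero, ← Finset.sum_neg_distrib, ← h0]
      refine Finset.sum_congr rfl fun i _ => ?_
      rw [map_mul, hF', show (σ.toRingHom : L →+* S) (cf i) = σ (cf i) from rfl]
      have hd : res (mk (gA (f i)) - σ (algebraMap A L (f i))) = 0 := by rw [map_sub, hσ]; exact sub_self _
      have he : res (mk (a i) - σ (cf i)) = 0 := by
        rw [map_sub, hσ]; exact sub_eq_zero.mpr (ha i)
      have h3 := hsq _ _ he hd
      show -(mk (a i) * (σ (algebraMap A L (f i)) - mk (gA (f i)))) =
        σ (cf i) * (mk (gA (f i)) - σ (algebraMap A L (f i)))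
      linear_combination h3
    intro i
    rw [← ha i]
    exact (residue_eq_zero_iff _).mpr (hcond a (Ideal.Quotient.eq_zero_iff_mem.mp hsum) i)
  · intro hli a ha
    exact mem_maximalIdeal_of_independent (L := L) p c f n (residue R) residue_eq_zero_iff (fun x => rfl) t
      (fun i => rfl) ht hli a ha

end Groth.Agent.EGA41Quot
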